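import Cfsg.Agent.H735.J4C.Main
import Cfsg.Agent.H653.Spor.J4Dz
import Cfsg.Agent.H34.TI.Col11
import Cfsg.Agent.H34.TI.J4Cnt
import Cfsg.Agent.H265.J4LP.ElevenMain
import Cfsg.Agent.H265.J4LP.Five
import Cfsg.Agent.H966.TI.J4Norm
import Cfsg.Agent.H877.IMJ4

/-!
# `J₄` has 13 irreducible characters of 11-defect zero, from the columns of 7 and 5
-/

set_option autoImplicit false

open Cfsg Subgroup

namespace Cfsg.Agent.H735.J4C

open Cfsg.Agent.H265.J4LP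

theorem ord7 {G : Type*} [Group G] {D : Data7 G} (h : Seven D) (p : Equiv.Perm (Fin 5)) :
    7 ∣ orderOf (D.y * D.psi p) ∧ 7 ∣ orderOf (D.y⁻¹ * D.psi p) := by
  refine ⟨?_, ?_⟩
  · rw [h.ord]
    exact dvd_mul_right _ _
  · have e : D.y⁻¹ * D.psi p = (D.y * D.psi p⁻¹)⁻¹ := by
      rw [h.comm, mul_inv_rev, map_inv, inv_inv]
    rw [e, orderOf_inv, h.ord]
    exact dvd_mul_right _ _

theorem ord5 {G : Type*} [Group G] {D : Data5 G} (h : Five D) (p : G) (hp : p ∈ D.H) : 5 ∣ orderOf (D.y * p) := by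
  have := h.ord ⟨p, hp⟩
  rw [this]
  exact dvd_mul_right _ _

theorem cents (p : ℕ) (hp : p ∈ [43, 37, 31, 29, 23]) :
    ∃ x : Spor.J4, orderOf x = p ∧ Nat.card (centralizer ({x} : Set Spor.J4)) = p := by
  have h := H653.Spor.J4Dz.cent_all
  simp only [List.mem_cons, List.not_mem_nil, or_false] at hp
  rcases hp with rfl | rfl | rfl | rfl | rfl
  · obtain ⟨x, h1, h2⟩ := h ⟨43, 1, 14, 3, [(0, 0), (1, 3), (14, -1), (29, 1), (42, -3)], 129, 3, true⟩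
      (by simp [H653.Spor.J4Dz.Ds])
    exact ⟨x, h1, by simpa using h2⟩
  · obtain ⟨x, h1, h2⟩ := h ⟨37, 1, 12, 3, [(0, 0), (1, 3), (12, -1), (25, 1), (36, -3)], 111, 3, true⟩
      (by simp [H653.Spor.J4Dz.Ds])
    exact ⟨x, h1, by simpa using h2⟩
  · obtain ⟨x, h1, h2⟩ := h ⟨31, 1, 10, 3, [(0, 0), (1, 3), (10, -1), (21, 1), (30, -3)], 93, 3, true⟩
      (by simp [H653.Spor.J4Dz.Ds])
    exact ⟨x, h1, by simpa using h2⟩
  · obtain ⟨x, h1, h2⟩ := h ⟨29, 1, 28, 1, [(0, 0), (1, 1), (28, -1)], 29, 0, false⟩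
      (by simp [H653.Spor.J4Dz.Ds])
    exact ⟨x, h1, by simpa using h2⟩
  · obtain ⟨x, h1, h2⟩ := h ⟨23, 1, 22, 1, [(0, 0), (1, 1), (22, -1)], 23, 0, false⟩
      (by simp [H653.Spor.J4Dz.Ds])
    exact ⟨x, h1, by simpa using h2⟩

theorem hN : Nat.card Spor.J4 = 86775571046077562880 := H860.PartFiveSeven.card_J4

attribute [local instance] H877.IMJ4.finJ4

theorem dz_of [Fintype (IrrCharacter Spor.J4)] {s : Fin 7 → IrrCharacter Spor.J4 → ℤ}
    (h7 : H34.TI.Cols7 Sv.D.y Sv.D.psi s) {th : Fin 11 → IrrCharacter Fv.D.H} {t : Fin 9 → IrrCharacter Spor.J4 → ℤ}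
    (h5 : H34.TI.Cols5 Fv.D.y Fv.D.H th t) (hst : H34.TI.Cross s t) :
    (Finset.univ.filter fun χ : IrrCharacter Spor.J4 => (1331 : ℤ) ∣ H34.TI.dg χ).card = 13 := by
  classical
  have hsim : IsSimpleGroup Spor.J4 := H877.IMJ4.simple
  obtain ⟨a, b, h11⟩ := H34.TI.cols11 El.eleven hN
  have h := card_dz H877.IMJ4.nonab hN H877.IMJ4.card_classes cents El.eleven.ord_z El.eleven.ord_x h11
    (ord7 Sv.seven) h7 (ord5 Fv.five) h5 hst
  rw [← h]
  refine congrArg Finset.card (Finset.filter_congr fun χ _ => ?_)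
  unfold H34.TI.dg
  exact_mod_cast Iff.rfl

/-- S4820 for `J₄`. -/
theorem cnt_of [Fintype (IrrCharacter Spor.J4)] {s : Fin 7 → IrrCharacter Spor.J4 → ℤ}
    (h7 : H34.TI.Cols7 Sv.D.y Sv.D.psi s) {th : Fin 11 → IrrCharacter Fv.D.H} {t : Fin 9 → IrrCharacter Spor.J4 → ℤ}
    (h5 : H34.TI.Cols5 Fv.D.y Fv.D.H th t) (hst : H34.TI.Cross s t) : H34.TI.Cnt 11 Spor.J4 := by
  haveI : Fact (Nat.Prime 11) := ⟨by norm_num⟩
  refine H34.TI.cnt_of El.eleven hN H877.IMJ4.card_classes (fun P => ?_) (dz_of h7 h5 hst)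
  refine H966.TI.card_NP El.eleven P ?_
  rw [P.card_eq_multiplicity, hN, H34.TI.fact_eleven (by norm_num) (by norm_num) (by norm_num)]
  norm_num

end Cfsg.Agent.H735.J4C
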