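import Cfsg.Agent.H735.J4C.Fin7
import Cfsg.Agent.H671.J4.Cols7

/-!
# `J₄` has 13 irreducible characters of 11-defect zero: S4819 / S4820 for `J₄`
-/

set_option autoImplicit false

open Cfsg Subgroup

namespace Cfsg.Agent.H735.J4C

open Cfsg.Agent.H265.J4LP

attribute [local instance] H877.IMJ4.finJ4

theorem dz_J4 [Fintype (IrrCharacter Spor.J4)] :
    (Finset.univ.filter fun χ : IrrCharacter Spor.J4 => (1331 : ℤ) ∣ H34.TI.dg χ).card = 13 :=
  dz_of7 (H671.J4.cols7 Sv.seven hN)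

/-- S4820 for `J₄`. -/
theorem cnt_J4 [Fintype (IrrCharacter Spor.J4)] : H34.TI.Cnt 11 Spor.J4 :=
  cnt_of7 (H671.J4.cols7 Sv.seven hN)

end Cfsg.Agent.H735.J4C
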