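import Cfsg.Agent.H735.J4C.Chk
import Cfsg.Agent.H653.Sieve.Cols
import Cfsg.Agent.H34.TI.J4Cols

/-!
# Orthogonality of columns with supports of different orders

`Sp P` : the span of the columns `χ ↦ χ g`, `g` of order satisfying `P`.
-/

set_option autoImplicit false

open Cfsg
open scoped ComplexConjugate

namespace Cfsg.Agent.H735.J4C

open Cfsg.Agent.Characters.Core Cfsg.Agent.H653.Sieve Cfsg.Agent.H653.Sys

universe u

variable {G : Type u} [Group G]

/-- The span of the columns of the elements whose order satisfies `P`. -/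
def Sp (G : Type u) [Group G] (P : ℕ → Prop) : Submodule ℂ (IrrCharacter G → ℂ) :=
  Submodule.span ℂ {f | ∃ g : G, P (orderOf g) ∧ f = fun χ : IrrCharacter G => (χ : G → ℂ) g}

theorem mem_Sp {P : ℕ → Prop} (g : G) (h : P (orderOf g)) : (fun χ : IrrCharacter G => (χ : G → ℂ) g) ∈ Sp G P :=
  Submodule.subset_span ⟨g, h, rfl⟩

/-- a linear combination of columns -/
theorem sum_mem_Sp {P : ℕ → Prop} {ι : Type*} (S : Finset ι) (f : ι → ℂ) (g : ι → G) (h : ∀ i ∈ S, P (orderOf (g i))) :
    (fun χ : IrrCharacter G => ∑ i ∈ S, f i * (χ : G → ℂ) (g i)) ∈ Sp G P := by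
  have e : (fun χ : IrrCharacter G => ∑ i ∈ S, f i * (χ : G → ℂ) (g i)) =
      ∑ i ∈ S, f i • (fun χ : IrrCharacter G => (χ : G → ℂ) (g i)) := by
    funext χ
    simp [Finset.sum_apply]
  rw [e]
  exact Submodule.sum_mem _ fun i hi => Submodule.smul_mem _ _ (mem_Sp (g i) (h i hi))

variable [Finite G] [Fintype (IrrCharacter G)]

theorem orth_Sp {P P' : ℕ → Prop} (hd : ∀ n, P n → ¬ P' n) {F F' : IrrCharacter G → ℂ} (hF : F ∈ Sp G P)
    (hF' : F' ∈ Sp G P') : ∑ χ, F χ * conj (F' χ) = 0 := by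
  classical
  have := Fintype.ofFinite G
  induction hF using Submodule.span_induction with
  | mem f hf =>
    obtain ⟨g, hg, rfl⟩ := hf
    induction hF' using Submodule.span_induction with
    | mem f' hf' =>
      obtain ⟨g', hg', rfl⟩ := hf'
      rw [S0145.sum_irr_mul_conj, if_neg]
      intro hc
      apply hd _ hg
      have h1 : orderOf g = orderOf g' := by
        obtain ⟨c, hc⟩ := isConj_iff.1 hc
        rw [← hc, ← MulAut.conj_apply, MulEquiv.orderOf_eq]
      rwa [h1]
    | zero => simp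
    | add f' g' _ _ h1 h2 =>
      simp only [Pi.add_apply, map_add, mul_add, Finset.sum_add_distrib, h1, h2, add_zero]
    | smul c f' _ h1 =>
      have e : ∀ χ : IrrCharacter G, (χ : G → ℂ) g * conj ((c • f') χ) =
          conj c * ((χ : G → ℂ) g * conj (f' χ)) := by
        intro χ
        rw [Pi.smul_apply, smul_eq_mul, map_mul]
        ring
      rw [Finset.sum_congr rfl fun χ _ => e χ, ← Finset.mul_sum, h1, mul_zero]
  | zero => simp
  | add f g _ _ h1 h2 =>
    simp only [Pi.add_apply, add_mul, Finset.sum_add_distrib, h1, h2, add_zero]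
  | smul c f _ h1 =>
    have e : ∀ χ : IrrCharacter G, (c • f) χ * conj (F' χ) = c * (f χ * conj (F' χ)) := by
      intro χ
      rw [Pi.smul_apply, smul_eq_mul]
      ring
    rw [Finset.sum_congr rfl fun χ _ => e χ, ← Finset.mul_sum, h1, mul_zero]

/-- integer columns -/
theorem orth_int {P P' : ℕ → Prop} (hd : ∀ n, P n → ¬ P' n) {W W' : IrrCharacter G → ℤ}
    (hW : (fun χ => (W χ : ℂ)) ∈ Sp G P) (hW' : (fun χ => (W' χ : ℂ)) ∈ Sp G P') : ∑ χ, W χ * W' χ = 0 := by
  have h := orth_Sp hd hW hW'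
  have e : ∀ χ : IrrCharacter G, (W χ : ℂ) * conj (W' χ : ℂ) = ((W χ * W' χ : ℤ) : ℂ) := by
    intro χ
    simp
  rw [Finset.sum_congr rfl fun χ _ => e χ] at h
  exact_mod_cast h


theorem deg_mem_Sp : (fun χ : IrrCharacter G => (((deg χ : ℕ) : ℤ) : ℂ)) ∈ Sp G (fun n => n = 1) := by
  have h : (fun χ : IrrCharacter G => (((deg χ : ℕ) : ℤ) : ℂ)) = fun χ : IrrCharacter G => (χ : G → ℂ) 1 := by
    funext χ
    rw [deg_cast, Int.cast_natCast]
  rw [h]
  exact mem_Sp 1 orderOf_one

end Cfsg.Agent.H735.J4C
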