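import Cfsg.Agent.H735.J4C.Data
import Cfsg.Agent.H735.J4C.Glue

/-!
# The number of the irreducible characters of `J₄` of 11-defect zero

`card_dz` : a simple group of the order of `J₄` with 62 classes and the columns `Cols11`, `Cols7`, `Cols5`, `Cross` has
exactly 13 irreducible characters of degree divisible by 1331.
-/

set_option autoImplicit false
set_option linter.unusedSectionVars false

open Cfsg Subgroup
open scoped ComplexConjugate

namespace Cfsg.Agent.H735.J4C

open Cfsg.Agent.Characters.Core Cfsg.Agent.H653.Sieve Cfsg.Agent.H735.Lin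

universe u

variable {G : Type u} [Group G] [Finite G] [Fintype (IrrCharacter G)]

/-- The column of a prime. -/
theorem prime_col [IsSimpleGroup G] (hG : ¬ IsMulCommutative G) {p : ℕ} (hp : p.Prime) (hN : Nat.card G = N)
    (hc : ∃ x : G, orderOf x = p ∧ Nat.card (centralizer ({x} : Set G)) = p)
    (e t : ℕ) (wl : List (ℕ × ℤ)) (c : ℤ) (b : Bool) (hnum : numOK N p 1 e t wl c b = true) :
    ∃ W : IrrCharacter G → ℤ, (fun χ => (W χ : ℂ)) ∈ Sp G (fun n => n = p) ∧ (∑ χ, W χ * W χ = ((t * p : ℕ) : ℤ)) ∧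
      (b = true → ∑ χ, (bif Nat.beq (W χ).natAbs 1 then (1 : ℤ) else 0) = c) ∧ ∀ χ, (deg χ % p, W χ) ∈ wl := by
  have := Fact.mk hp
  obtain ⟨x, hx, hcx⟩ := hc
  obtain ⟨P, W, hP, he, hcol, hok⟩ := Cfsg.Agent.H653.Sieve.exists_col hG hN hx (k := 1) (by rw [hcx, mul_one]) e t wl c b hnum
  refine ⟨W, ?_, ?_, hok.cnt, hok.mem⟩
  · obtain ⟨S, f, hf, hS⟩ := H653.Sys.supp_of_isCol hP he hcol
    have e1 : (fun χ : IrrCharacter G => (W χ : ℂ)) = fun χ : IrrCharacter G => ∑ g ∈ S, f g * (χ : G → ℂ) g :=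
      funext hf
    rw [e1]
    exact sum_mem_Sp S f (fun g => g) fun g hg => by simpa using hS g hg
  · have := hok.sq
    simpa using this

theorem lab_of {n : ℕ} {s : Fin n → ℤ} {i : Fin n} {c : ℤ} (h : ∀ j, j ≠ i → s j = 0) (hc : s i = c) :
    Lab s ((i : ℕ), c) := by
  intro j
  by_cases hj : j = i
  · rw [hj, hc, if_pos rfl]
  · rw [h j hj, if_neg]
    exact fun e => hj (Fin.ext e)

theorem lab_zero {n : ℕ} {s : Fin n → ℤ} (h : ∀ j, s j = 0) : Lab s (0, 0) := by
  intro j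
  rw [h j]
  simp

/-- the types of the columns of 7 -/
theorem type7 {d : ℕ} {s : Fin 7 → ℤ} (h : ((7 : ℤ) ∣ (d : ℤ) ∧ ∀ a, s a = 0) ∨ ∃ a, ∃ e : ℤ, (e = 1 ∨ e = -1) ∧
    (∀ a', a' ≠ a → s a' = 0) ∧ ((s a = 2 * e ∧ (7 : ℤ) ∣ (d : ℤ) - e * H34.TI.t7 a) ∨
      (s a = -e ∧ (7 : ℤ) ∣ (d : ℤ) - 3 * e * H34.TI.t7 a))) :
    ∃ l ∈ T7.getD (d % 7) [], l.1 < 7 ∧ Lab s l := by
  rcases h with ⟨h7, h0⟩ | ⟨a, e, he, ha, h⟩
  · have e1 : d % 7 = 0 := by omega
    rw [e1]
    exact ⟨(0, 0), by decide, by norm_num, lab_zero h0⟩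
  · obtain ⟨r, hr⟩ : ∃ r, d % 7 = r := ⟨_, rfl⟩
    have hr7 : r < 7 := by omega
    rw [hr]
    suffices hmem : ((a : ℕ), s a) ∈ T7.getD r [] from ⟨_, hmem, a.2, lab_of ha rfl⟩
    rcases h with ⟨h1, h2⟩ | ⟨h1, h2⟩
    · rw [h1]
      have h3 : (7 : ℤ) ∣ (r : ℤ) - e * H34.TI.t7 a := by omega
      clear * - h3 he hr7
      revert h3
      rcases he with rfl | rfl <;> interval_cases r <;> revert a <;> decide
    · rw [h1]
      have h3 : (7 : ℤ) ∣ (r : ℤ) - 3 * e * H34.TI.t7 a := by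
        rcases he with rfl | rfl <;> omega
      clear * - h3 he hr7
      revert h3
      rcases he with rfl | rfl <;> interval_cases r <;> revert a <;> decide

/-- the types of the columns of 5 -/
theorem type5 {d : ℕ} {s : Fin 9 → ℤ} (h : ((5 : ℤ) ∣ (d : ℤ) ∧ ∀ b, s b = 0) ∨ ∃ b, ∃ e : ℤ, (e = 1 ∨ e = -1) ∧
    (∀ b', b' ≠ b → s b' = 0) ∧ ((b.val < 7 ∧ s b = e ∧ (5 : ℤ) ∣ (d : ℤ) - e * H34.TI.t5 b) ∨
      (7 ≤ b.val ∧ s b = 2 * e ∧ (5 : ℤ) ∣ (d : ℤ) - 2 * e * H34.TI.t5 b) ∨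
      (7 ≤ b.val ∧ s b = -e ∧ (5 : ℤ) ∣ (d : ℤ) - 4 * e * H34.TI.t5 b))) :
    ∃ l ∈ T5.getD (d % 5) [], l.1 < 9 ∧ Lab s l := by
  rcases h with ⟨h7, h0⟩ | ⟨a, e, he, ha, h⟩
  · have e1 : d % 5 = 0 := by omega
    rw [e1]
    exact ⟨(0, 0), by decide, by norm_num, lab_zero h0⟩
  · obtain ⟨r, hr⟩ : ∃ r, d % 5 = r := ⟨_, rfl⟩
    have hr7 : r < 5 := by omega
    rw [hr]
    suffices hmem : ((a : ℕ), s a) ∈ T5.getD r [] from ⟨_, hmem, a.2, lab_of ha rfl⟩
    rcases h with ⟨h0, h1, h2⟩ | ⟨h0, h1, h2⟩ | ⟨h0, h1, h2⟩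
    · rw [h1]
      have h3 : (5 : ℤ) ∣ (r : ℤ) - e * H34.TI.t5 a := by
        rcases he with rfl | rfl <;> omega
      clear * - h3 he hr7 h0
      revert h3 h0
      rcases he with rfl | rfl <;> interval_cases r <;> revert a <;> decide
    · rw [h1]
      have h3 : (5 : ℤ) ∣ (r : ℤ) - 2 * e * H34.TI.t5 a := by
        rcases he with rfl | rfl <;> omega
      clear * - h3 he hr7 h0
      revert h3 h0
      rcases he with rfl | rfl <;> interval_cases r <;> revert a <;> decide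
    · rw [h1]
      have h3 : (5 : ℤ) ∣ (r : ℤ) - 4 * e * H34.TI.t5 a := by
        rcases he with rfl | rfl <;> omega
      clear * - h3 he hr7 h0
      revert h3 h0
      rcases he with rfl | rfl <;> interval_cases r <;> revert a <;> decide

/-- the set of the elements with value `±1` -/
theorem cnt_eq {X : Type*} [Fintype X] {w : X → ℤ} {n : ℕ}
    (h : (Finset.univ.filter fun x => w x = 1 ∨ w x = -1).card = n) :
    ∑ x, (bif Nat.beq (w x).natAbs 1 then (1 : ℤ) else 0) = n := by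
  rw [← h, Finset.card_filter, Nat.cast_sum]
  refine Finset.sum_congr rfl fun x _ => ?_
  by_cases hx : w x = 1 ∨ w x = -1
  · rw [if_pos hx]
    have : (w x).natAbs = 1 := by omega
    rw [this]
    rfl
  · rw [if_neg hx]
    have h1 : Nat.beq (w x).natAbs 1 = false := by
      rw [Bool.eq_false_iff]
      intro h2
      have := Nat.eq_of_beq_eq_true h2
      omega
    rw [h1]
    rfl

theorem sumsq : ∑ χ : IrrCharacter G, (deg χ : ℤ) * deg χ = (Nat.card G : ℤ) := by
  have := Fintype.ofFinite G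
  have h3 := SmallSimple.DegreeData.sum_sq (G := G)
  rw [← h3]
  push_cast
  refine Finset.sum_congr rfl fun χ _ => ?_
  unfold deg
  ring

theorem cnt5_lt {t : Fin 9 → IrrCharacter G → ℤ} {j : Fin 9}
    (h : ∀ χ, t j χ = 0 ∨ t j χ = 1 ∨ t j χ = -1) (hsq : ∑ χ, t j χ * t j χ = 5) :
    ∑ χ, (bif Nat.beq (t j χ).natAbs 1 then (1 : ℤ) else 0) = 5 := by
  rw [← hsq]
  refine Finset.sum_congr rfl fun χ _ => ?_
  rcases h χ with h | h | h <;> rw [h] <;> rfl

/-- the numbers of the values `±1` of the columns of 5 -/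
def ct5 (j : Fin 9) : ℤ := if j.val < 7 then 5 else 2

/-- the values of the total -/
def totC (C : Coef) : ℤ :=
  C.tot (n := 7) (m := 9) 62 1 [86775571046077562880, 129, 111, 93, 29, 23, 31944, 242] [3, 3, 3]
    (fun _ => 14) (fun _ => 2) (fun j => if j.val < 7 then 5 else 10) ct5
    (fun a b => (![1, 1, -1, -1, 0, 0, 1] : Fin 7 → ℤ) a * (![2, -1, -1, -2, 0, 2, 0, 0, 0] : Fin 9 → ℤ) b)

theorem tot_lo : 12 * S < totC lo := by decide +kernel

theorem tot_up : -(14 * S) < totC up := by decide +kernel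

theorem orth_eq {p q : ℕ} (hpq : p ≠ q) {W W' : IrrCharacter G → ℤ}
    (hW : (fun χ => (W χ : ℂ)) ∈ Sp G (fun n => n = p)) (hW' : (fun χ => (W' χ : ℂ)) ∈ Sp G (fun n => n = q)) :
    ∑ χ, W χ * W' χ = 0 := orth_int (fun _ h h' => hpq (h.symm.trans h')) hW hW'

theorem orth_dvd {p q : ℕ} (hpq : ¬ p ∣ q) {W W' : IrrCharacter G → ℤ}
    (hW : (fun χ => (W χ : ℂ)) ∈ Sp G (fun n => p ∣ n)) (hW' : (fun χ => (W' χ : ℂ)) ∈ Sp G (fun n => n = q)) :
    ∑ χ, W χ * W' χ = 0 :=
  orth_int (fun n (h : p ∣ n) (h' : n = q) => hpq (by rwa [h'] at h)) hW hW'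

theorem mem7 {y : G} {psi : Equiv.Perm (Fin 5) →* G} {s : Fin 7 → IrrCharacter G → ℤ} (h : H34.TI.Cols7 y psi s)
    (hy : ∀ p, 7 ∣ orderOf (y * psi p) ∧ 7 ∣ orderOf (y⁻¹ * psi p)) (a : Fin 7) :
    (fun χ => (s a χ : ℂ)) ∈ Sp G (fun n => 7 ∣ n) := by
  have e : (fun χ : IrrCharacter G => (s a χ : ℂ)) =
      (fun χ : IrrCharacter G => ∑ p : Equiv.Perm (Fin 5), (H34.TI.th5 a p : ℂ) / 120 * (χ : G → ℂ) (y * psi p)) +
        fun χ : IrrCharacter G => ∑ p : Equiv.Perm (Fin 5), (H34.TI.th5 a p : ℂ) / 120 * (χ : G → ℂ) (y⁻¹ * psi p) := by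
    funext χ
    rw [Pi.add_apply, h.supp a χ, ← Finset.sum_add_distrib]
    exact Finset.sum_congr rfl fun p _ => mul_add _ _ _
  rw [e]
  exact Submodule.add_mem _ (sum_mem_Sp _ _ _ fun p _ => (hy p).1) (sum_mem_Sp _ _ _ fun p _ => (hy p).2)

theorem mem5 {y : G} {H : Subgroup G} {th : Fin 11 → IrrCharacter H} {t : Fin 9 → IrrCharacter G → ℤ}
    (h : H34.TI.Cols5 y H th t) (hy : ∀ p ∈ H, 5 ∣ orderOf (y * p)) (b : Fin 9) :
    (fun χ => (t b χ : ℂ)) ∈ Sp G (fun n => 5 ∣ n) := by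
  let _ := Fintype.ofFinite H
  have e : (fun χ : IrrCharacter G => (t b χ : ℂ)) = ∑ i ∈ H34.TI.grp b,
      fun χ : IrrCharacter G => ∑ p : H, conj ((th i : H → ℂ) p) / 1344 * (χ : G → ℂ) (y * p) := by
    funext χ
    rw [Finset.sum_apply, h.supp b χ]
  rw [e]
  exact Submodule.sum_mem _ fun i _ => sum_mem_Sp _ _ _ fun p _ => hy p p.2

/-- **The number of the irreducible characters of `J₄` of 11-defect zero.** -/
theorem card_dz [IsSimpleGroup G] (hG : ¬ IsMulCommutative G) (hN : Nat.card G = N)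
    (hk : Nat.card (ConjClasses G) = 62)
    (hc : ∀ p ∈ [43, 37, 31, 29, 23], ∃ x : G, orderOf x = p ∧ Nat.card (centralizer ({x} : Set G)) = p)
    {z x : G} (hz : orderOf z = 11) (hx : orderOf x = 11) {a b : IrrCharacter G → ℤ} (h11 : H34.TI.Cols11 z x a b)
    {y : G} {psi : Equiv.Perm (Fin 5) →* G} (hy : ∀ p, 7 ∣ orderOf (y * psi p) ∧ 7 ∣ orderOf (y⁻¹ * psi p))
    {s : Fin 7 → IrrCharacter G → ℤ} (h7 : H34.TI.Cols7 y psi s)
    {y' : G} {H : Subgroup G} {th : Fin 11 → IrrCharacter H} (hy' : ∀ p ∈ H, 5 ∣ orderOf (y' * p))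
    {t : Fin 9 → IrrCharacter G → ℤ} (h5 : H34.TI.Cols5 y' H th t) (hst : H34.TI.Cross s t) :
    (Finset.univ.filter fun χ : IrrCharacter G => 1331 ∣ charDegree (χ : G → ℂ)).card = 13 := by
  classical
  have := Fintype.ofFinite G
  obtain ⟨W0, m0, q0, c0, r0⟩ := prime_col hG (by norm_num) hN (hc 43 (by simp)) 14 3
    [(0, .ofNat 0), (1, .ofNat 3), (14, .negSucc 0), (29, .ofNat 1), (42, .negSucc 2)] 3 true (by decide +kernel)
  obtain ⟨W1, m1, q1, c1, r1⟩ := prime_col hG (by norm_num) hN (hc 37 (by simp)) 12 3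
    [(0, .ofNat 0), (1, .ofNat 3), (12, .negSucc 0), (25, .ofNat 1), (36, .negSucc 2)] 3 true (by decide +kernel)
  obtain ⟨W2, m2, q2, c2, r2⟩ := prime_col hG (by norm_num) hN (hc 31 (by simp)) 10 3
    [(0, .ofNat 0), (1, .ofNat 3), (10, .negSucc 0), (21, .ofNat 1), (30, .negSucc 2)] 3 true (by decide +kernel)
  obtain ⟨W3, m3, q3, -, r3⟩ := prime_col hG (by norm_num) hN (hc 29 (by simp)) 28 1
    [(0, .ofNat 0), (1, .ofNat 1), (28, .negSucc 0)] 0 false (by decide +kernel)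
  obtain ⟨W4, m4, q4, -, r4⟩ := prime_col hG (by norm_num) hN (hc 23 (by simp)) 22 1
    [(0, .ofNat 0), (1, .ofNat 1), (22, .negSucc 0)] 0 false (by decide +kernel)
  have md := deg_mem_Sp (G := G)
  have ma : (fun χ => (a χ : ℂ)) ∈ Sp G (fun n => n = 11) := by
    rw [funext h11.a_eq]
    exact mem_Sp z hz
  have mb : (fun χ => (b χ : ℂ)) ∈ Sp G (fun n => n = 11) := by
    rw [funext h11.b_eq]
    exact mem_Sp x hx
  have hA0 : Orth [(fun χ => (deg χ : ℤ)), W0, W1, W2, W3, W4, a, b]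
      [86775571046077562880, 129, 111, 93, 29, 23, 31944, 242] := by
    refine .cons (by rw [sumsq, hN]; rfl) ?_ (.cons q0 ?_ (.cons q1 ?_ (.cons q2 ?_ (.cons q3 ?_ (.cons q4 ?_
      (.cons h11.aa ?_ (.cons h11.bb ?_ .nil)))))))
    · intro W hW
      simp only [List.mem_cons, List.not_mem_nil, or_false] at hW
      rcases hW with rfl | rfl | rfl | rfl | rfl | rfl | rfl
      · exact orth_eq (by norm_num) md m0
      · exact orth_eq (by norm_num) md m1
      · exact orth_eq (by norm_num) md m2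
      · exact orth_eq (by norm_num) md m3
      · exact orth_eq (by norm_num) md m4
      · exact orth_eq (by norm_num) md ma
      · exact orth_eq (by norm_num) md mb
    · intro W hW
      simp only [List.mem_cons, List.not_mem_nil, or_false] at hW
      rcases hW with rfl | rfl | rfl | rfl | rfl | rfl
      · exact orth_eq (by norm_num) m0 m1
      · exact orth_eq (by norm_num) m0 m2
      · exact orth_eq (by norm_num) m0 m3
      · exact orth_eq (by norm_num) m0 m4
      · exact orth_eq (by norm_num) m0 ma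
      · exact orth_eq (by norm_num) m0 mb
    · intro W hW
      simp only [List.mem_cons, List.not_mem_nil, or_false] at hW
      rcases hW with rfl | rfl | rfl | rfl | rfl
      · exact orth_eq (by norm_num) m1 m2
      · exact orth_eq (by norm_num) m1 m3
      · exact orth_eq (by norm_num) m1 m4
      · exact orth_eq (by norm_num) m1 ma
      · exact orth_eq (by norm_num) m1 mb
    · intro W hW
      simp only [List.mem_cons, List.not_mem_nil, or_false] at hW
      rcases hW with rfl | rfl | rfl | rfl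
      · exact orth_eq (by norm_num) m2 m3
      · exact orth_eq (by norm_num) m2 m4
      · exact orth_eq (by norm_num) m2 ma
      · exact orth_eq (by norm_num) m2 mb
    · intro W hW
      simp only [List.mem_cons, List.not_mem_nil, or_false] at hW
      rcases hW with rfl | rfl | rfl
      · exact orth_eq (by norm_num) m3 m4
      · exact orth_eq (by norm_num) m3 ma
      · exact orth_eq (by norm_num) m3 mb
    · intro W hW
      simp only [List.mem_cons, List.not_mem_nil, or_false] at hW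
      rcases hW with rfl | rfl
      · exact orth_eq (by norm_num) m4 ma
      · exact orth_eq (by norm_num) m4 mb
    · intro W hW
      simp only [List.mem_cons, List.not_mem_nil, or_false] at hW
      rw [hW]
      exact h11.ab
    · intro W hW
      simp at hW
  have hA : Orth ((fun χ => (deg χ : ℤ)) :: ([W0, W1, W2, W3, W4] ++ [a, b]))
      [86775571046077562880, 129, 111, 93, 29, 23, 31944, 242] := hA0
  have hdA : ∀ (q : ℕ), (∀ p ∈ [1, 43, 37, 31, 29, 23, 11], ¬ q ∣ p) → ∀ {U : IrrCharacter G → ℤ},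
      (fun χ => (U χ : ℂ)) ∈ Sp G (fun n => q ∣ n) →
      ∀ W ∈ (fun χ => (deg χ : ℤ)) :: ([W0, W1, W2, W3, W4] ++ [a, b]), ∑ χ, U χ * W χ = 0 := by
    intro q hq U hU W hW
    simp only [List.cons_append, List.nil_append, List.mem_cons, List.not_mem_nil, or_false] at hW
    rcases hW with rfl | rfl | rfl | rfl | rfl | rfl | rfl | rfl
    · exact orth_dvd (hq 1 (by simp)) hU md
    · exact orth_dvd (hq 43 (by simp)) hU m0
    · exact orth_dvd (hq 37 (by simp)) hU m1
    · exact orth_dvd (hq 31 (by simp)) hU m2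
    · exact orth_dvd (hq 29 (by simp)) hU m3
    · exact orth_dvd (hq 23 (by simp)) hU m4
    · exact orth_dvd (hq 11 (by simp)) hU ma
    · exact orth_dvd (hq 11 (by simp)) hU mb
  have hnp : ¬ (Nat.card G).Prime := by
    rw [hN, N]
    norm_num
  have hone : ∑ χ : IrrCharacter G, (bif Nat.beq (deg χ) 1 then (1 : ℤ) else 0) = 1 := by
    obtain ⟨χ₁, hχ₁⟩ : ∃ χ : IrrCharacter G, (χ : G → ℂ) = 1 := ⟨⟨1, isIrr_one⟩, rfl⟩
    have hd1 : deg χ₁ = 1 := by
      unfold deg charDegree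
      rw [hχ₁]
      simp
    rw [Finset.sum_eq_single χ₁]
    · rw [hd1]
      rfl
    · intro χ _ hχ
      have h1 : Nat.beq (deg χ) 1 = false := by
        rw [Bool.eq_false_iff]
        intro h2
        exact hχ (Subtype.ext ((one_of_deg hnp χ (Nat.eq_of_beq_eq_true h2)).trans hχ₁.symm))
      rw [h1]
      rfl
    · intro h
      exact absurd (Finset.mem_univ _) h
  have hcard : (Fintype.card (IrrCharacter G) : ℤ) = 62 := by
    rw [← Nat.card_eq_fintype_card, card_irr, hk]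
    rfl
  have hd : ∀ χ : IrrCharacter G, deg χ ∣ N := by
    intro χ
    rw [← hN]
    exact Blocks.Knorr.charDegree_dvd χ.2
  have hd2 : ∀ χ : IrrCharacter G, deg χ * deg χ < N := by
    intro χ
    obtain ⟨χ₁, hχ₁⟩ : ∃ χ : IrrCharacter G, (χ : G → ℂ) = 1 := ⟨⟨1, isIrr_one⟩, rfl⟩
    have hd1 : deg χ₁ = 1 := by
      unfold deg charDegree
      rw [hχ₁]
      simp
    by_cases hne : χ = χ₁
    · rw [hne, hd1, N]
      norm_num
    · have hsq := SmallSimple.DegreeData.sum_sq (G := G)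
      have h4 : ∑ χ' ∈ ({χ, χ₁} : Finset (IrrCharacter G)), charDegree (χ' : G → ℂ) ^ 2 ≤
          ∑ χ' : IrrCharacter G, charDegree (χ' : G → ℂ) ^ 2 := Finset.sum_le_sum_of_subset (Finset.subset_univ _)
      rw [Finset.sum_pair hne, hsq, hN] at h4
      have e1 : charDegree (χ : G → ℂ) = deg χ := rfl
      have e2 : charDegree (χ₁ : G → ℂ) = deg χ₁ := rfl
      rw [e1, e2, hd1, pow_two] at h4
      omega
  have hT : ∀ C : Coef, ∃ c c' : ℤ, ∑ χ, evx C deg ((fun χ => (deg χ : ℤ)) :: ([W0, W1, W2, W3, W4] ++ [a, b]))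
      [W0, W1, W2, W3, W4] s t χ = C.tot 62 1 [86775571046077562880, 129, 111, 93, 29, 23, 31944, 242] [3, 3, 3, c, c']
        (fun _ => 14) (fun _ => 2) (fun j => if j.val < 7 then 5 else 10) ct5
        (fun a b => (![1, 1, -1, -1, 0, 0, 1] : Fin 7 → ℤ) a * (![2, -1, -1, -2, 0, 2, 0, 0, 0] : Fin 9 → ℤ) b) := by
    intro C
    refine ⟨_, _, sum_evx C hcard hone hA (.cons (c0 rfl) (.cons (c1 rfl) (.cons (c2 rfl) (.cons rfl (.cons rfl .nil)))))
      (fun i => hdA 7 (by decide) (mem7 h7 hy i)) (fun j => hdA 5 (by decide) (mem5 h5 hy' j))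
      (fun i => by rw [h7.gram, if_pos rfl]) (fun j => by rw [h5.gram, if_pos rfl]) (fun i => ?_) (fun j => ?_) hst⟩
    · have := cnt_eq (h7.cnt i)
      exact_mod_cast this
    · unfold ct5
      split
      · rename_i hj
        refine cnt5_lt (fun χ => ?_) (by rw [h5.gram, if_pos rfl, if_pos hj])
        rcases h5.type χ with ⟨-, h0⟩ | ⟨b', e, he, h0, h⟩
        · exact .inl (h0 j)
        · by_cases hb : j = b'
          · subst hb
            rcases h with ⟨-, h, -⟩ | ⟨h, -⟩ | ⟨h, -⟩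
            · right
              rw [h]
              exact he
            · omega
            · omega
          · exact .inl (h0 j hb)
      · rename_i hj
        have := cnt_eq (h5.cnt j (by omega))
        exact_mod_cast this
  have main : ∀ (C : Coef) (c : ℤ), chk N PF T7 T5 C c L = true → ∀ T : ℤ,
      (∀ c c' : ℤ, C.tot 62 1 [86775571046077562880, 129, 111, 93, 29, 23, 31944, 242] [3, 3, 3, c, c']
        (fun _ : Fin 7 => 14) (fun _ => 2) (fun j : Fin 9 => if j.val < 7 then 5 else 10) ct5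
        (fun a b => (![1, 1, -1, -1, 0, 0, 1] : Fin 7 → ℤ) a * (![2, -1, -1, -2, 0, 2, 0, 0, 0] : Fin 9 → ℤ) b) = T) →
      T ≤ c * (Finset.univ.filter fun χ : IrrCharacter G => 1331 ∣ charDegree (χ : G → ℂ)).card := by
    intro C c hck T hTT
    obtain ⟨u, v, h1⟩ := hT C
    rw [hTT] at h1
    refine tot_le_of_chk C c (L := L) (by decide +kernel) (by decide +kernel) hd hd2 (fun χ => ?_) h11.norm h11.cong
      (fun χ => h11.cong' χ) (fun χ => h11.dvd_a χ) (fun χ => h11.dvd_b χ) (fun χ => type7 (h7.type χ))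
      (fun χ => type5 (h5.type χ)) h1 hck
    exact .cons (r0 χ) (.cons (r1 χ) (.cons (r2 χ) (.cons (r3 χ) (.cons (r4 χ) .nil))))
  have h1 := main lo S chk_lo (totC lo) (fun _ _ => rfl)
  have h2 := main up (-S) chk_up (totC up) (fun _ _ => rfl)
  have h3 := tot_lo
  have h4 := tot_up
  have hS : (0 : ℤ) < S := by decide +kernel
  have h5' : (12 : ℤ) < (Finset.univ.filter fun χ : IrrCharacter G => 1331 ∣ charDegree (χ : G → ℂ)).card := by
    by_contra hcon
    push Not at hcon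
    have := mul_le_mul_of_nonneg_left hcon hS.le
    linarith
  have h6' : ((Finset.univ.filter fun χ : IrrCharacter G => 1331 ∣ charDegree (χ : G → ℂ)).card : ℤ) < 14 := by
    by_contra hcon
    push Not at hcon
    have := mul_le_mul_of_nonneg_left hcon hS.le
    linarith
  have h7' : 12 < (Finset.univ.filter fun χ : IrrCharacter G => 1331 ∣ charDegree (χ : G → ℂ)).card := by
    exact_mod_cast h5'
  have h8' : (Finset.univ.filter fun χ : IrrCharacter G => 1331 ∣ charDegree (χ : G → ℂ)).card < 14 := by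
    exact_mod_cast h6'
  omega

end Cfsg.Agent.H735.J4C
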