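import Cfsg.Agent.H34.TI.Defs
import Cfsg.Agent.H245.DM.Count
import Cfsg.Agent.H697.ClassCount

/-!
# Transport of the count of S4820 along isomorphisms (helper735)
-/

set_option autoImplicit false
set_option linter.unusedSectionVars false

open Cfsg Subgroup
open scoped Pointwise

namespace Cfsg.Agent.H735.J4C

open Cfsg.Agent.H34.TI

universe u v

variable {G : Type u} [Group G] [Finite G] {H : Type v} [Group H] {p : ℕ}

theorem normalizer_map (e : G ≃* H) (P : Subgroup G) :
    (normalizer (P : Set G)).map e.toMonoidHom = normalizer ((P.map e.toMonoidHom : Subgroup H) : Set H) :=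
  Subgroup.map_equiv_normalizer_eq P e

theorem isTI_map (e : G ≃* H) {P : Subgroup G} (h : IsTI P) : IsTI (P.map e.toMonoidHom) := by
  intro g hg
  rw [← normalizer_map] at hg
  have h1 := h (e.symm g) (fun hx => hg ⟨_, hx, e.apply_symm_apply g⟩)
  rw [eq_bot_iff]
  rintro y ⟨hy, hy'⟩
  rw [Subgroup.mem_bot]
  have h2 : e.symm y ∈ P ⊓ (MulAut.conj (e.symm g) • P) := by
    refine ⟨?_, ?_⟩
    · obtain ⟨x, hx, rfl⟩ := hy
      show e.symm (e x) ∈ P
      rwa [e.symm_apply_apply]
    · replace hy' : y ∈ (MulAut.conj g • P.map e.toMonoidHom : Subgroup H) := hy'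
      show e.symm y ∈ (MulAut.conj (e.symm g) • P : Subgroup G)
      rw [Subgroup.mem_pointwise_smul_iff_inv_smul_mem] at hy' ⊢
      obtain ⟨x, hx, hxy⟩ := hy'
      have h3 : (MulAut.conj (e.symm g))⁻¹ • e.symm y = x := by
        apply e.injective
        show e ((MulAut.conj (e.symm g))⁻¹ (e.symm y)) = e x
        rw [show e x = (MulAut.conj g)⁻¹ y from hxy, MulAut.conj_inv_apply, MulAut.conj_inv_apply,
          map_mul, map_mul, map_inv, e.apply_symm_apply, e.apply_symm_apply]
      rw [h3]
      exact hx
  rw [h1, Subgroup.mem_bot] at h2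
  exact (map_eq_one_iff e.symm e.symm.injective).mp h2

/-- the count of S4820 is invariant under isomorphisms -/
theorem cnt_congr [Fact p.Prime] (e : G ≃* H) (h : Cnt p H) : Cnt p G := by
  have : Finite H := Finite.of_equiv G e.toEquiv
  intro P hP
  let P' : Sylow p H := P.mapSurjective (f := e.toMonoidHom) e.surjective
  have hP' : (P' : Subgroup H) = (P : Subgroup G).map e.toMonoidHom := rfl
  have h1 := h P' (by rw [hP']; exact isTI_map e hP)
  have e1 : Nat.card (ConjClasses G) = Nat.card (ConjClasses H) := H697.ClassCount.card_conjClasses_congr e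
  have e2 : Nat.card (ConjClasses (normalizer ((P : Subgroup G) : Set G))) =
      Nat.card (ConjClasses (normalizer ((P' : Subgroup H) : Set H))) :=
    H697.ClassCount.card_conjClasses_congr
      ((e.subgroupMap (normalizer ((P : Subgroup G) : Set G))).trans
        (MulEquiv.subgroupCongr (normalizer_map e (P : Subgroup G))))
  have e3 : Nat.card {χ : Cfsg.IrrCharacter G // IsDz p χ} = Nat.card {χ : Cfsg.IrrCharacter H // IsDz p χ} :=
    Nat.card_congr ((H245.DM.irrCongr e).subtypeEquiv fun χ => by
      unfold IsDz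
      rw [H245.DM.charDegree_irrCongr, Nat.card_congr e.toEquiv])
  rw [e1, e2, e3, h1]

end Cfsg.Agent.H735.J4C
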