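import Cfsg.Agent.H735.J4C.Fin8
import Cfsg.Agent.H735.J4C.Trans

/-!
# S4820 for the groups isomorphic to `J₄` (any universe)
-/

set_option autoImplicit false

open Cfsg Subgroup

namespace Cfsg.Agent.H735.J4C

attribute [local instance] H877.IMJ4.finJ4

universe u

/-- S4820 for the groups isomorphic to `J₄`. -/
theorem cnt_of_isoJ4 {H : Type u} [Group H] (h : Nonempty (H ≃* Spor.J4)) : H34.TI.Cnt 11 H := by
  obtain ⟨e⟩ := h
  have : Finite H := Finite.of_equiv Spor.J4 e.symm.toEquiv
  have : Finite (IrrCharacter Spor.J4) := Characters.Core.finite_irr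
  have := Fintype.ofFinite (IrrCharacter Spor.J4)
  have : Fact (Nat.Prime 11) := ⟨by norm_num⟩
  exact cnt_congr e cnt_J4

end Cfsg.Agent.H735.J4C
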