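import Cfsg.Agent.H966.TI.RowJ4
import Cfsg.Agent.H735.J4C.Fin9

/-!
# S4819 / S4820: the row `J₄`
-/

set_option autoImplicit false

namespace Cfsg.Agent.H735.J4C

universe u

theorem rowJ4 : H723.TI.RowJ4.{u} := H966.TI.rowJ4_of (fun _ _ _ h => cnt_of_isoJ4 h)

end Cfsg.Agent.H735.J4C
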