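import Cfsg.Agent.H735.J4C.Lin
import Cfsg.Agent.H653.Sieve.Check

/-!
# Linear certificates for the number of characters with a given property

`Coef` : the coefficients of a linear certificate; `Coef.ev` : its value at a type `(d, X, (i, c), (j, c'))` of a
character: `X` the values of the orthogonal columns, `(i, c)` : only the column `s i` is nonzero, with value `c`,
`(j, c')` the same for `t`.
`sum_ev` : the sum over all characters.
-/

set_option autoImplicit false

namespace Cfsg.Agent.H735.Lin

/-- a quadratic form, with upper triangular matrix -/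
def qt : List (List ℤ) → List ℤ → ℤ
  | r :: rs, x :: xs => x * dot r (x :: xs) + qt rs xs
  | _, _ => 0

/-- the coefficients of the numbers of the values `±1` -/
def ex : List ℤ → List ℤ → ℤ
  | e :: es, w :: ws => (bif Nat.beq w.natAbs 1 then e else 0) + ex es ws
  | _, _ => 0

/-- the coefficients of a certificate -/
structure Coef where
  M : List (List ℤ)
  E : List ℤ
  k : ℤ
  o : ℤ
  RS : List (List ℤ)
  RT : List (List ℤ)
  ST : List (List ℤ)

/-- the part of one label -/
def lev (R : List (List ℤ)) (X : List ℤ) (i : ℕ) (c : ℤ) : ℤ :=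
  match R.getD i [] with
  | q :: e :: r => c * (c * q + dot r X) + (bif Nat.beq c.natAbs 1 then e else 0)
  | _ => 0

theorem lev_zero (R : List (List ℤ)) (X : List ℤ) (i : ℕ) : lev R X i 0 = 0 := by
  unfold lev
  split
  · simp only [zero_mul, zero_add, Int.natAbs_zero]
    rfl
  · rfl

/-- the value of a certificate at a type -/
def Coef.ev (C : Coef) (d : ℕ) (X Y : List ℤ) (l m : ℕ × ℤ) : ℤ :=
  C.k + (bif Nat.beq d 1 then C.o else 0) + qt C.M X + ex C.E Y + lev C.RS X l.1 l.2 + lev C.RT X m.1 m.2 +
    l.2 * m.2 * ((C.ST.getD l.1 []).getD m.1 0)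

section

variable {X : Type*} [Fintype X]

/-- orthogonal columns with given sums of squares -/
inductive Orth : List (X → ℤ) → List ℤ → Prop
  | nil : Orth [] []
  | cons {W : X → ℤ} {Ws : List (X → ℤ)} {c : ℤ} {cs : List ℤ} (hc : ∑ x, W x * W x = c)
      (h : ∀ W' ∈ Ws, ∑ x, W x * W' x = 0) (hs : Orth Ws cs) : Orth (W :: Ws) (c :: cs)

/-- the trace -/
def trc : List (List ℤ) → List ℤ → ℤ
  | (q :: _) :: rs, c :: cs => q * c + trc rs cs
  | [] :: rs, _ :: cs => trc rs cs
  | _, _ => 0

theorem sum_dot_zero (w : X → ℤ) : ∀ (r : List ℤ) {B : List (X → ℤ)}, (∀ W ∈ B, ∑ x, w x * W x = 0) →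
    ∑ x, w x * dot r (val B x) = 0
  | [], B, _ => by simp [dot]
  | _ :: _, [], _ => by simp [dot, val]
  | r :: rs, b :: B, h => by
    have ih := sum_dot_zero w rs (B := B) fun W hW => h W (List.mem_cons_of_mem _ hW)
    have h1 := h b List.mem_cons_self
    have e : ∀ x, w x * dot (r :: rs) (val (b :: B) x) = r * (w x * b x) + w x * dot rs (val B x) := by
      intro x
      rw [val, List.map_cons, dot, ← val]
      ring
    rw [Finset.sum_congr rfl fun x _ => e x, Finset.sum_add_distrib, ih, ← Finset.mul_sum, h1]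
    simp

theorem sum_qt : ∀ (M : List (List ℤ)) {A : List (X → ℤ)} {cs : List ℤ}, Orth A cs →
    ∑ x, qt M (val A x) = trc M cs
  | [], A, cs, _ => by simp [qt, trc]
  | _ :: _, [], _, .nil => by simp [qt, trc, val]
  | [] :: rs, W :: A, _, .cons hc h hs => by
    have ih := sum_qt rs hs
    have e : ∀ x, qt ([] :: rs) (val (W :: A) x) = qt rs (val A x) := by
      intro x
      rw [val, List.map_cons, qt, ← val]
      simp [dot]
    rw [Finset.sum_congr rfl fun x _ => e x, ih, trc]
  | (q :: r) :: rs, W :: A, _, .cons (c := c) hc h hs => by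
    have ih := sum_qt rs hs
    have h1 := sum_dot_zero W r h
    have e : ∀ x, qt ((q :: r) :: rs) (val (W :: A) x) = q * (W x * W x) + W x * dot r (val A x) + qt rs (val A x) := by
      intro x
      rw [val, List.map_cons, qt, dot, ← val]
      ring
    rw [Finset.sum_congr rfl fun x _ => e x, Finset.sum_add_distrib, Finset.sum_add_distrib, ih, h1,
      ← Finset.mul_sum, hc, trc]
    ring

/-- the numbers of the values `±1` -/
theorem sum_ex : ∀ (es : List ℤ) {A : List (X → ℤ)} {cs : List ℤ},
    List.Forall₂ (fun (W : X → ℤ) (c : ℤ) => ∑ x, (bif Nat.beq (W x).natAbs 1 then (1 : ℤ) else 0) = c) A cs →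
    ∑ x, ex es (val A x) = dot es cs
  | [], A, cs, _ => by simp [ex, dot]
  | _ :: _, [], cs, h => by
    cases h
    simp [ex, dot, val]
  | e :: es, W :: A, cs, h => by
    cases h with
    | cons h1 h2 =>
      rename_i c cs
      have ih := sum_ex es h2
      have e1 : ∀ x, ex (e :: es) (val (W :: A) x) =
          e * (bif Nat.beq (W x).natAbs 1 then (1 : ℤ) else 0) + ex es (val A x) := by
        intro x
        rw [val, List.map_cons, ex, ← val]
        cases Nat.beq (W x).natAbs 1 <;> simp
      rw [Finset.sum_congr rfl fun x _ => e1 x, Finset.sum_add_distrib, ih, ← Finset.mul_sum, h1, dot]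

/-- the total of one label -/
def levT (R : List (List ℤ)) (i : ℕ) (sq ct : ℤ) : ℤ :=
  match R.getD i [] with
  | q :: e :: _ => q * sq + e * ct
  | _ => 0

theorem sum_lev (R : List (List ℤ)) (A : List (X → ℤ)) (i : ℕ) (w : X → ℤ) (h : ∀ W ∈ A, ∑ x, w x * W x = 0)
    {sq ct : ℤ} (h1 : ∑ x, w x * w x = sq) (h2 : ∑ x, (bif Nat.beq (w x).natAbs 1 then (1 : ℤ) else 0) = ct) :
    ∑ x, lev R (val A x) i (w x) = levT R i sq ct := by
  unfold lev levT
  split
  · rename_i q e r _
    have e1 : ∀ x, w x * (w x * q + dot r (val A x)) + (bif Nat.beq (w x).natAbs 1 then e else 0) =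
        q * (w x * w x) + w x * dot r (val A x) + e * (bif Nat.beq (w x).natAbs 1 then (1 : ℤ) else 0) := by
      intro x
      cases Nat.beq (w x).natAbs 1
      · simp only [cond_false]
        ring
      · simp only [cond_true]
        ring
    rw [Finset.sum_congr rfl fun x _ => e1 x, Finset.sum_add_distrib, Finset.sum_add_distrib, sum_dot_zero w r h,
      ← Finset.mul_sum, ← Finset.mul_sum, h1, h2]
    ring
  · simp

end

end Cfsg.Agent.H735.Lin
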