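import Cfsg.Agent.H735.J4C.Cert

/-!
# The check of a linear certificate for `J₄`, `p = 11`

`Sys` : the columns and their properties. `tot` : the total of a certificate. `le_of_chk` : if the check succeeds, the
total is at most `c` times the number of the characters of degree divisible by 1331.
-/

set_option autoImplicit false

namespace Cfsg.Agent.H735.Lin

open Cfsg.Agent.H653.Sieve (allDiv allDiv_spec facProd)

/-! ### Enumerations -/

/-- the values of the prime columns -/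
def allH (d : ℕ) : List (ℕ × List (ℕ × ℤ)) → (List ℤ → Bool) → Bool
  | [], k => k []
  | (p, wl) :: L, k => wl.all fun rw => bif Nat.beq (d % p) rw.1 then allH d L (fun ws => k (rw.2 :: ws)) else true

theorem allH_spec {d : ℕ} : ∀ {L : List (ℕ × List (ℕ × ℤ))} {k : List ℤ → Bool}, allH d L k = true → ∀ {ws : List ℤ},
    List.Forall₂ (fun (p : ℕ × List (ℕ × ℤ)) (w : ℤ) => (d % p.1, w) ∈ p.2) L ws → k ws = true
  | [], k, h, ws, hw => by
    cases hw
    simpa [allH] using h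
  | (p, wl) :: L, k, h, ws, hw => by
    cases hw with
    | cons h1 h2 =>
      rename_i w ws
      rw [allH, List.all_eq_true] at h
      have h3 := h _ h1
      have h4 : Nat.beq (d % p) (d % p) = true := Nat.beq_refl _
      rw [h4, cond_true] at h3
      exact allH_spec h3 h2

/-- the conditions on `a = χ(z)`, `b = χ(x)` -/
def okAB (d a b : ℤ) : Bool :=
  decide (242 * (a * a) + 31944 * (b * b) ≤ 7730448) && decide ((b - a) % 11 = 0) &&
    decide (2716490453483520 * a % d = 0) && decide (358576739859824640 * b % d = 0)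

def candA (d b : ℤ) : ℤ := (133 * d - 132 * b + 665) % 1331 - 665

def allAB (d : ℤ) (k : ℤ → ℤ → Bool) : Bool :=
  (List.range 31).all fun i => bif okAB d (candA d ((i : ℤ) - 15)) ((i : ℤ) - 15) then
    k (candA d ((i : ℤ) - 15)) ((i : ℤ) - 15) else true

theorem allAB_spec {d a b : ℤ} {k : ℤ → ℤ → Bool} (h : allAB d k = true) (hn : 242 * a ^ 2 + 31944 * b ^ 2 ≤ 7730448)
    (h1 : (11 : ℤ) ∣ b - a) (h2 : (1331 : ℤ) ∣ d - (11 * b - 10 * a)) (h3 : d ∣ 2716490453483520 * a)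
    (h4 : d ∣ 358576739859824640 * b) : k a b = true := by
  have hb : -15 ≤ b ∧ b ≤ 15 := by
    constructor <;> nlinarith [sq_nonneg a]
  have ha : -665 ≤ a ∧ a ≤ 665 := by
    constructor <;> nlinarith [sq_nonneg b]
  obtain ⟨i, hi⟩ : ∃ i : ℕ, (i : ℤ) = b + 15 := ⟨(b + 15).toNat, by omega⟩
  have hi' : i < 31 := by omega
  rw [allAB, List.all_eq_true] at h
  have h5 := h i (List.mem_range.2 hi')
  have e1 : (i : ℤ) - 15 = b := by omega
  have e2 : candA d b = a := by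
    unfold candA
    omega
  rw [e1, e2] at h5
  have h6 : okAB d a b = true := by
    simp only [okAB, Bool.and_eq_true, decide_eq_true_eq]
    refine ⟨⟨⟨?_, ?_⟩, Int.emod_eq_zero_of_dvd h3⟩, Int.emod_eq_zero_of_dvd h4⟩
    · nlinarith
    · exact Int.emod_eq_zero_of_dvd h1
  rw [h6, cond_true] at h5
  exact h5

/-! ### The system of columns -/

section

variable {X : Type*} [Fintype X] {n m : ℕ}

/-- The value of the certificate at `x`. -/
def evx (C : Coef) (d : X → ℕ) (A B : List (X → ℤ)) (s : Fin n → X → ℤ) (t : Fin m → X → ℤ) (x : X) : ℤ :=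
  C.k + (bif Nat.beq (d x) 1 then C.o else 0) + qt C.M (val A x) + ex C.E (val B x) +
    ∑ i : Fin n, lev C.RS (val A x) (i : ℕ) (s i x) + ∑ j : Fin m, lev C.RT (val A x) (j : ℕ) (t j x) +
    ∑ i : Fin n, ∑ j : Fin m, s i x * t j x * ((C.ST.getD (i : ℕ) []).getD (j : ℕ) 0)

/-- only the entry `l.1` is nonzero, with value `l.2` -/
def Lab {n : ℕ} (s : Fin n → ℤ) (l : ℕ × ℤ) : Prop := ∀ i : Fin n, s i = if (i : ℕ) = l.1 then l.2 else 0

theorem sum_of_lab {n : ℕ} {s : Fin n → ℤ} {l : ℕ × ℤ} (h : Lab s l) (hl : l.1 < n) (f : ℕ → ℤ → ℤ)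
    (hf : ∀ i, f i 0 = 0) : ∑ i : Fin n, f (i : ℕ) (s i) = f l.1 l.2 := by
  rw [Finset.sum_eq_single (⟨l.1, hl⟩ : Fin n)]
  · rw [h, if_pos rfl]
  · intro i _ hi
    rw [h, if_neg (fun e => hi (Fin.ext e)), hf]
  · intro h'
    exact absurd (Finset.mem_univ _) h'

theorem evx_eq (C : Coef) {d : X → ℕ} {A B : List (X → ℤ)} {s : Fin n → X → ℤ} {t : Fin m → X → ℤ} {x : X}
    {l l' : ℕ × ℤ} (h : Lab (fun i => s i x) l) (hl : l.1 < n) (h' : Lab (fun j => t j x) l') (hl' : l'.1 < m) :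
    evx C d A B s t x = C.ev (d x) (val A x) (val B x) l l' := by
  have h1 := sum_of_lab h hl (fun i c => lev C.RS (val A x) i c) (fun i => lev_zero _ _ _)
  have h2 := sum_of_lab h' hl' (fun i c => lev C.RT (val A x) i c) (fun i => lev_zero _ _ _)
  have h3 : ∀ i : Fin n, ∑ j : Fin m, s i x * t j x * ((C.ST.getD (i : ℕ) []).getD (j : ℕ) 0) =
      s i x * l'.2 * ((C.ST.getD (i : ℕ) []).getD l'.1 0) := by
    intro i
    exact sum_of_lab h' hl' (fun j c => s i x * c * ((C.ST.getD (i : ℕ) []).getD j 0)) (fun j => by ring)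
  have h4 := sum_of_lab h hl (fun i c => c * l'.2 * ((C.ST.getD i []).getD l'.1 0)) (fun j => by ring)
  rw [evx, Coef.ev, h1, h2, Finset.sum_congr rfl fun i _ => h3 i, h4]

/-- The total of the certificate. -/
def Coef.tot (C : Coef) (K one : ℤ) (cs es : List ℤ) (sq ct : Fin n → ℤ) (sq' ct' : Fin m → ℤ) (g : Fin n → Fin m → ℤ) :
    ℤ :=
  C.k * K + C.o * one + trc C.M cs + dot C.E es + ∑ i : Fin n, levT C.RS (i : ℕ) (sq i) (ct i) +
    ∑ j : Fin m, levT C.RT (j : ℕ) (sq' j) (ct' j) + ∑ i : Fin n, ∑ j : Fin m, g i j * ((C.ST.getD (i : ℕ) []).getD (j : ℕ) 0)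

theorem sum_evx (C : Coef) {d : X → ℕ} {A B : List (X → ℤ)} {s : Fin n → X → ℤ} {t : Fin m → X → ℤ}
    {K one : ℤ} {cs es : List ℤ} {sq ct : Fin n → ℤ} {sq' ct' : Fin m → ℤ} {g : Fin n → Fin m → ℤ}
    (hK : (Fintype.card X : ℤ) = K) (h1 : ∑ x, (bif Nat.beq (d x) 1 then (1 : ℤ) else 0) = one) (hA : Orth A cs)
    (hB : List.Forall₂ (fun (W : X → ℤ) (c : ℤ) => ∑ x, (bif Nat.beq (W x).natAbs 1 then (1 : ℤ) else 0) = c) B es)
    (hsA : ∀ i, ∀ W ∈ A, ∑ x, s i x * W x = 0) (htA : ∀ j, ∀ W ∈ A, ∑ x, t j x * W x = 0)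
    (hs : ∀ i, ∑ x, s i x * s i x = sq i) (ht : ∀ j, ∑ x, t j x * t j x = sq' j)
    (hs1 : ∀ i, ∑ x, (bif Nat.beq (s i x).natAbs 1 then (1 : ℤ) else 0) = ct i)
    (ht1 : ∀ j, ∑ x, (bif Nat.beq (t j x).natAbs 1 then (1 : ℤ) else 0) = ct' j)
    (hst : ∀ i j, ∑ x, s i x * t j x = g i j) :
    ∑ x, evx C d A B s t x = C.tot K one cs es sq ct sq' ct' g := by
  unfold evx Coef.tot
  have e1 : ∑ x : X, (bif Nat.beq (d x) 1 then C.o else 0) = C.o * one := by
    rw [← h1, Finset.mul_sum]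
    refine Finset.sum_congr rfl fun x _ => ?_
    cases Nat.beq (d x) 1 <;> simp
  have e2 : ∑ _x : X, C.k = C.k * K := by
    rw [Finset.sum_const, Finset.card_univ, nsmul_eq_mul, hK, mul_comm]
  have e3 : ∑ x, ∑ i : Fin n, lev C.RS (val A x) (i : ℕ) (s i x) = ∑ i : Fin n, levT C.RS (i : ℕ) (sq i) (ct i) := by
    rw [Finset.sum_comm]
    exact Finset.sum_congr rfl fun i _ => sum_lev C.RS A i (s i) (hsA i) (hs i) (hs1 i)
  have e4 : ∑ x, ∑ j : Fin m, lev C.RT (val A x) (j : ℕ) (t j x) = ∑ j : Fin m, levT C.RT (j : ℕ) (sq' j) (ct' j) := by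
    rw [Finset.sum_comm]
    exact Finset.sum_congr rfl fun j _ => sum_lev C.RT A j (t j) (htA j) (ht j) (ht1 j)
  have e5 : ∑ x, ∑ i : Fin n, ∑ j : Fin m, s i x * t j x * ((C.ST.getD (i : ℕ) []).getD (j : ℕ) 0) =
      ∑ i : Fin n, ∑ j : Fin m, g i j * ((C.ST.getD (i : ℕ) []).getD (j : ℕ) 0) := by
    rw [Finset.sum_comm]
    refine Finset.sum_congr rfl fun i _ => ?_
    rw [Finset.sum_comm]
    refine Finset.sum_congr rfl fun j _ => ?_
    rw [← Finset.sum_mul, hst]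
  rw [Finset.sum_add_distrib, Finset.sum_add_distrib, Finset.sum_add_distrib, Finset.sum_add_distrib,
    Finset.sum_add_distrib, Finset.sum_add_distrib, e1, e2, e3, e4, e5, sum_qt C.M hA, sum_ex C.E hB]

/-- Bounding the number of the `x` with property `P`. -/
theorem tot_le {F : X → ℤ} {T c : ℤ} {P : X → Prop} [DecidablePred P] (h : ∑ x, F x = T)
    (hF : ∀ x, F x ≤ if P x then c else 0) : T ≤ c * (Finset.univ.filter P).card := by
  rw [← h]
  refine (Finset.sum_le_sum fun x _ => hF x).trans (le_of_eq ?_)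
  rw [← Finset.sum_filter, Finset.sum_const, nsmul_eq_mul, mul_comm]

end

/-- The check for one degree. -/
def chkD (PF : List (ℕ × List (ℕ × ℤ))) (T7 T5 : List (List (ℕ × ℤ))) (C : Coef) (c : ℤ) (d : ℕ) : Bool :=
  allH d PF fun ws => allAB d fun a b => (T7.getD (d % 7) []).all fun l => (T5.getD (d % 5) []).all fun m =>
    decide (C.ev d ((d : ℤ) :: (ws ++ [a, b])) ws l m ≤ (bif Nat.beq (d % 1331) 0 then c else 0))

/-- The check for all degrees. -/
def chk (N : ℕ) (PF : List (ℕ × List (ℕ × ℤ))) (T7 T5 : List (List (ℕ × ℤ))) (C : Coef) (c : ℤ)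
    (L : List (ℕ × ℕ)) : Bool :=
  allDiv N (fun d => bif Nat.ble N (d * d) then true else chkD PF T7 T5 C c d) L 1

section

variable {X : Type*} [Fintype X]

/-- **The certificate.** `d` : the degrees, `Ws` : the prime columns, `a`, `b`, `s`, `t` : the other columns. -/
theorem tot_le_of_chk (C : Coef) (c : ℤ) {N : ℕ} {L : List (ℕ × ℕ)} (hL : (L.all fun pa => Nat.Prime pa.1) = true)
    (hLN : facProd L = N) {PF : List (ℕ × List (ℕ × ℤ))} {T7 T5 : List (List (ℕ × ℤ))}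
    {d : X → ℕ} {Ws : List (X → ℤ)} {a b : X → ℤ} {s : Fin 7 → X → ℤ} {t : Fin 9 → X → ℤ}
    (hd : ∀ x, d x ∣ N) (hd2 : ∀ x, d x * d x < N)
    (hW : ∀ x, List.Forall₂ (fun (p : ℕ × List (ℕ × ℤ)) (w : ℤ) => (d x % p.1, w) ∈ p.2) PF (val Ws x))
    (hn : ∀ x, 242 * a x ^ 2 + 31944 * b x ^ 2 ≤ 7730448) (hab : ∀ x, (11 : ℤ) ∣ b x - a x)
    (hdab : ∀ x, (1331 : ℤ) ∣ d x - (11 * b x - 10 * a x)) (hda : ∀ x, (d x : ℤ) ∣ 2716490453483520 * a x)
    (hdb : ∀ x, (d x : ℤ) ∣ 358576739859824640 * b x)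
    (hs : ∀ x, ∃ l ∈ T7.getD (d x % 7) [], l.1 < 7 ∧ Lab (fun i => s i x) l)
    (ht : ∀ x, ∃ l ∈ T5.getD (d x % 5) [], l.1 < 9 ∧ Lab (fun i => t i x) l)
    {T : ℤ} (hT : ∑ x, evx C d ((fun x => (d x : ℤ)) :: (Ws ++ [a, b])) Ws s t x = T)
    (hc : chk N PF T7 T5 C c L = true) :
    T ≤ c * (Finset.univ.filter fun x => 1331 ∣ d x).card := by
  refine tot_le hT fun x => ?_
  have hpr : ∀ pa ∈ L, pa.1.Prime := by
    intro pa hpa
    have := List.all_eq_true.1 hL pa hpa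
    simpa using this
  have h1 := allDiv_spec hpr hc (d x) (by rw [hLN]; exact hd x) (by rw [one_mul]; exact hd2 x)
  have h2 : Nat.ble N (d x * d x) = false := by
    rw [Bool.eq_false_iff]
    intro h5
    exact absurd (Nat.le_of_ble_eq_true h5) (by have := hd2 x; omega)
  rw [one_mul, h2, cond_false, chkD] at h1
  have h3 := allAB_spec (allH_spec h1 (hW x)) (hn x) (hab x) (hdab x) (hda x) (hdb x)
  obtain ⟨l, hl, hl7, hls⟩ := hs x
  obtain ⟨m, hm, hm9, hmt⟩ := ht x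
  rw [List.all_eq_true] at h3
  have h4 := h3 l hl
  rw [List.all_eq_true] at h4
  have h5 := h4 m hm
  rw [decide_eq_true_eq] at h5
  rw [evx_eq C hls hl7 hmt hm9]
  have e1 : val ((fun x => (d x : ℤ)) :: (Ws ++ [a, b])) x = (d x : ℤ) :: (val Ws x ++ [a x, b x]) := by
    simp [val]
  rw [e1]
  refine h5.trans (le_of_eq ?_)
  by_cases h6 : 1331 ∣ d x
  · rw [if_pos h6]
    have h7 : Nat.beq (d x % 1331) 0 = true := by
      rw [Nat.mod_eq_zero_of_dvd h6]
      rfl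
    rw [h7, cond_true]
  · rw [if_neg h6]
    have h7 : Nat.beq (d x % 1331) 0 = false := by
      rw [Bool.eq_false_iff]
      intro h8
      exact h6 (Nat.dvd_of_mod_eq_zero (Nat.eq_of_beq_eq_true h8))
    rw [h7, cond_false]

end

end Cfsg.Agent.H735.Lin
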