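import Cfsg.Agent.H735.J4C.Fin
import Cfsg.Agent.H265.J4LP.FiveIrr
import Cfsg.Agent.H265.J4LP.Cross
import Cfsg.Agent.H618.J4.Cols5

/-!
# `J₄` has 13 irreducible characters of 11-defect zero, from the columns of 7
-/

set_option autoImplicit false

open Cfsg Subgroup

namespace Cfsg.Agent.H735.J4C

open Cfsg.Agent.H265.J4LP

attribute [local instance] H877.IMJ4.finJ4

theorem dz_of7 [Fintype (IrrCharacter Spor.J4)] (h7 : ∃ s, H34.TI.Cols7 Sv.D.y Sv.D.psi s) :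
    (Finset.univ.filter fun χ : IrrCharacter Spor.J4 => (1331 : ℤ) ∣ H34.TI.dg χ).card = 13 := by
  obtain ⟨s, h7⟩ := h7
  obtain ⟨th, I, A⟩ := Fv.irrH
  obtain ⟨t, h5⟩ := H618.J4.cols5 Fv.five I A hN
  exact dz_of h7 h5 (Fv.cross_J4 I h7 h5)

/-- S4820 for `J₄`. -/
theorem cnt_of7 [Fintype (IrrCharacter Spor.J4)] (h7 : ∃ s, H34.TI.Cols7 Sv.D.y Sv.D.psi s) :
    H34.TI.Cnt 11 Spor.J4 := by
  obtain ⟨s, h7⟩ := h7
  obtain ⟨th, I, A⟩ := Fv.irrH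
  obtain ⟨t, h5⟩ := H618.J4.cols5 Fv.five I A hN
  exact cnt_of h7 h5 (Fv.cross_J4 I h7 h5)

end Cfsg.Agent.H735.J4C
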