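import Mathlib.Algebra.BigOperators.Ring.Finset
import Mathlib.Data.Int.Basic
import Mathlib.Tactic

/-!
# Linear certificates: sums of bilinear forms of columns

`sum_bil` : the sum over `x` of a bilinear form in the values at `x` of two lists of columns is the Frobenius product
of the form with the Gram matrix. `bil_eq_comb`, `bil_eq_mv` : evaluation with one argument fixed.
-/

set_option autoImplicit false

namespace Cfsg.Agent.H735.Lin

def dot : List ℤ → List ℤ → ℤ
  | a :: as, w :: ws => a * w + dot as ws
  | _, _ => 0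

/-- `∑ i, a_i * (M_i ⬝ b)` -/
def bil : List (List ℤ) → List ℤ → List ℤ → ℤ
  | r :: rs, a :: as, b => a * dot r b + bil rs as b
  | _, _, _ => 0

/-- the Frobenius product -/
def frob : List (List ℤ) → List (List ℤ) → ℤ
  | r :: rs, g :: gs => dot r g + frob rs gs
  | _, _ => 0

/-- `M b` -/
def mv (M : List (List ℤ)) (b : List ℤ) : List ℤ := M.map fun r => dot r b

/-- `a + k b`, where the shorter list is extended by zeros -/
def axpy (k : ℤ) : List ℤ → List ℤ → List ℤ
  | a :: as, b :: bs => (a + k * b) :: axpy k as bs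
  | [], bs => bs.map fun b => k * b
  | as, [] => as

/-- `∑ i, a_i M_i` -/
def comb : List ℤ → List (List ℤ) → List ℤ
  | a :: as, r :: rs => axpy a (comb as rs) r
  | _, _ => []

theorem dot_comm : ∀ a b : List ℤ, dot a b = dot b a
  | [], [] => rfl
  | [], _ :: _ => rfl
  | _ :: _, [] => rfl
  | a :: as, b :: bs => by rw [dot, dot, dot_comm as bs, mul_comm]

theorem dot_nil : ∀ a : List ℤ, dot a [] = 0
  | [] => rfl
  | _ :: _ => rfl

theorem dot_smul (k : ℤ) : ∀ a b : List ℤ, dot (a.map fun x => k * x) b = k * dot a b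
  | [], b => by simp [dot]
  | _ :: _, [] => by simp [dot]
  | a :: as, b :: bs => by
    rw [List.map_cons, dot, dot, dot_smul k as bs]; ring

theorem dot_axpy (k : ℤ) : ∀ a b c : List ℤ, dot (axpy k a b) c = dot a c + k * dot b c
  | [], [], c => by simp [axpy, dot]
  | [], b :: bs, c => by
    rw [axpy, dot_smul]
    simp [dot]
  | a :: as, [], c => by simp [axpy, dot]
  | _ :: _, _ :: _, [] => by simp [axpy, dot]
  | a :: as, b :: bs, c :: cs => by
    rw [axpy, dot, dot, dot, dot_axpy k as bs cs]; ring

theorem bil_eq_comb : ∀ (M : List (List ℤ)) (a b : List ℤ), bil M a b = dot (comb a M) b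
  | [], [], b => by simp [bil, comb, dot]
  | [], _ :: _, b => by simp [bil, comb, dot]
  | _ :: _, [], b => by simp [bil, comb, dot]
  | r :: rs, a :: as, b => by
    rw [bil, comb, dot_axpy, bil_eq_comb rs as b]; ring

theorem bil_eq_mv : ∀ (M : List (List ℤ)) (a b : List ℤ), bil M a b = dot (mv M b) a
  | [], [], b => by simp [bil, mv, dot]
  | [], _ :: _, b => by simp [bil, mv, dot]
  | _ :: _, [], b => by simp [bil, mv, dot]
  | r :: rs, a :: as, b => by
    rw [bil, mv, List.map_cons, dot, ← mv, bil_eq_mv rs as b]; ring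

section

variable {X : Type*} [Fintype X]

/-- The Gram matrix of two lists of columns. -/
def gram (A B : List (X → ℤ)) : List (List ℤ) := A.map fun a => B.map fun b => ∑ x, a x * b x

/-- the values of a list of columns -/
def val (A : List (X → ℤ)) (x : X) : List ℤ := A.map fun a => a x

theorem sum_dot (w : X → ℤ) : ∀ (r : List ℤ) (B : List (X → ℤ)),
    ∑ x, w x * dot r (val B x) = dot r (B.map fun b => ∑ x, w x * b x)
  | [], B => by simp [dot]
  | _ :: _, [] => by simp [dot, val]
  | r :: rs, b :: B => by
    rw [List.map_cons, dot, ← sum_dot w rs B, Finset.mul_sum, ← Finset.sum_add_distrib]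
    refine Finset.sum_congr rfl fun x _ => ?_
    rw [val, List.map_cons, dot, ← val]
    ring

theorem sum_bil : ∀ (M : List (List ℤ)) (A B : List (X → ℤ)),
    ∑ x, bil M (val A x) (val B x) = frob M (gram A B)
  | [], A, B => by simp [bil, frob]
  | _ :: _, [], B => by simp [bil, frob, gram, val]
  | r :: rs, a :: A, B => by
    have ih := sum_bil rs A B
    rw [gram, List.map_cons, frob, ← gram, ← ih, ← sum_dot, ← Finset.sum_add_distrib]
    refine Finset.sum_congr rfl fun x _ => ?_
    rw [val, List.map_cons, bil, ← val]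

end

end Cfsg.Agent.H735.Lin
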